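import Mathlib

/-!
Groups whose Sylow two-subgroups `P` have `P/P'` elementary abelian: it is enough that one of them
is generated by elements whose squares lie in its derived group.
-/

set_option autoImplicit false

open scoped commutatorElement

namespace CfsgLib.SylowTwoElem

/-- Every square in a Sylow two-subgroup is in its derived group. -/
def SqComm (G : Type*) [Group G] : Prop :=
  ∀ (P : Sylow 2 G) (x : (P : Subgroup G)), x ^ 2 ∈ commutator (P : Subgroup G)

variable {G : Type*} [Group G]

/-- The elements of `U` with square in its derived group. -/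
def good (U : Subgroup G) : Set G := {g | g ∈ U ∧ g ^ 2 ∈ ⁅U, U⁆}

theorem good_mul {U : Subgroup G} {a b : G} (ha : a ∈ good U) (hb : b ∈ good U) :
    a * b ∈ good U := by
  refine ⟨mul_mem ha.1 hb.1, ?_⟩
  rw [show (a * b) ^ 2 = a ^ 2 * ⁅a⁻¹, b⁆ * b ^ 2 by
    simp only [pow_two, commutatorElement_def]; group]
  exact mul_mem (mul_mem ha.2 (Subgroup.commutator_mem_commutator (inv_mem ha.1) hb.1)) hb.2

theorem good_one (U : Subgroup G) : (1 : G) ∈ good U := ⟨one_mem U, by simp⟩

theorem good_inv {U : Subgroup G} {a : G} (ha : a ∈ good U) : a⁻¹ ∈ good U :=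
  ⟨inv_mem ha.1, by rw [inv_pow]; exact inv_mem ha.2⟩

/-- The good elements form a subgroup. -/
def goodGrp (U : Subgroup G) : Subgroup G where
  carrier := good U
  one_mem' := good_one U
  mul_mem' := good_mul
  inv_mem' := good_inv

theorem goodGrp_le (U : Subgroup G) : goodGrp U ≤ U := fun _ h => h.1

theorem mem_goodGrp {U : Subgroup G} {g : G} : g ∈ goodGrp U ↔ g ∈ U ∧ g ^ 2 ∈ ⁅U, U⁆ := Iff.rfl

theorem mem_goodGrp_of_sq {U : Subgroup G} {g : G} (h : g ∈ U) (h2 : g * g = 1) : g ∈ goodGrp U :=
  ⟨h, by rw [pow_two, h2]; exact one_mem _⟩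

/-- A subgroup of two-power order and odd index generated by good elements suffices. -/
theorem SqComm.of_subgroup [Finite G] (U : Subgroup G) (hU : IsPGroup 2 U) (hidx : ¬ 2 ∣ U.index)
    (hgen : U ≤ goodGrp U) : SqComm G := by
  haveI := Fact.mk Nat.prime_two
  intro P x
  let Q : Sylow 2 G := hU.toSylow hidx
  obtain ⟨g, hg⟩ := MulAction.exists_smul_eq G Q P
  have hP : (P : Subgroup G) = U.map (MulAut.conj g).toMonoidHom := by
    rw [← hg, Sylow.coe_subgroup_smul]; rfl
  obtain ⟨u, hu, hux⟩ : (x : G) ∈ U.map (MulAut.conj g).toMonoidHom := hP ▸ x.2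
  rw [← Subgroup.mem_map_iff_mem (f := (P : Subgroup G).subtype) (Subgroup.subtype_injective _),
    commutator_def, Subgroup.map_commutator, ← MonoidHom.range_eq_map, Subgroup.range_subtype]
  have h : MulAut.conj g (u ^ 2) ∈ ⁅U.map (MulAut.conj g).toMonoidHom,
      U.map (MulAut.conj g).toMonoidHom⁆ := by
    rw [← Subgroup.map_commutator]
    exact ⟨u ^ 2, (hgen hu).2, rfl⟩
  rw [← hP, map_pow] at h
  rw [map_pow, Subgroup.subtype_apply, ← hux]
  exact h

/-- The property passes to quotients. -/
theorem SqComm.of_surjective [Finite G] {H : Type*} [Group H] (hG : SqComm G) (f : G →* H)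
    (hf : Function.Surjective f) : SqComm H := by
  haveI := Fact.mk Nat.prime_two
  haveI := Finite.of_surjective f hf
  obtain ⟨Q⟩ := (inferInstance : Nonempty (Sylow 2 G))
  refine SqComm.of_subgroup ((Q : Subgroup G).map f) (Q.2.map f) ?_ ?_
  · intro h
    exact Q.not_dvd_index (h.trans (Subgroup.index_map_dvd _ hf))
  · rintro _ ⟨u, hu, rfl⟩
    refine ⟨⟨u, hu, rfl⟩, ?_⟩
    rw [← Subgroup.map_commutator, ← map_pow]
    refine ⟨u ^ 2, ?_, rfl⟩
    have h := Subgroup.mem_map_of_mem (Q : Subgroup G).subtype (hG Q ⟨u, hu⟩)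
    rwa [commutator_def, Subgroup.map_commutator, ← MonoidHom.range_eq_map,
      Subgroup.range_subtype] at h

theorem SqComm.congr [Finite G] {H : Type*} [Group H] (hG : SqComm G) (e : G ≃* H) : SqComm H :=
  hG.of_surjective e.toMonoidHom e.surjective

/-- A good element of a subgroup is good upstairs. -/
theorem goodGrp_mono {U V : Subgroup G} (h : U ≤ V) : goodGrp U ≤ goodGrp V := fun _ hg =>
  ⟨h hg.1, Subgroup.commutator_mono h h hg.2⟩

/-- Good elements pass along an injective homomorphism. -/
theorem le_goodGrp_comap {H : Type*} [Group H] (f : G →* H) (hf : Function.Injective f)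
    {U : Subgroup G} (h : U.map f ≤ goodGrp (U.map f)) : U ≤ goodGrp U := by
  intro u hu
  refine ⟨hu, ?_⟩
  have h2 := (h ⟨u, hu, rfl⟩).2
  rw [← Subgroup.map_commutator, ← map_pow] at h2
  exact (Subgroup.mem_map_iff_mem hf).1 h2

end CfsgLib.SylowTwoElem
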