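import Cfsg.Agent.Lib.SylowTwoElem.Basic
import Cfsg.Agent.Lib.Chev.All
import Cfsg.Agent.S2326

/-!
The Chevalley groups of exceptional type in characteristic two.
-/

set_option autoImplicit false
set_option linter.style.haveILetI false

namespace CfsgLib.SylowTwoElem

open Cfsg Cfsg.Lie CfsgLib.Chev

/-- A two-subgroup of odd index in a subgroup, generated by good elements. -/
theorem SqComm.of_le {H : Type*} [Group H] {G U : Subgroup H} [Finite G] (hUG : U ≤ G)
    (hU : IsPGroup 2 U) (hidx : ¬ 2 ∣ (U.subgroupOf G).index) (hgen : U ≤ goodGrp U) :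
    SqComm G := by
  refine SqComm.of_subgroup (U.subgroupOf G)
    (hU.comap_of_injective G.subtype G.subtype_injective) hidx
    (le_goodGrp_comap G.subtype G.subtype_injective ?_)
  rwa [Subgroup.subgroupOf_map_subtype, inf_eq_left.2 hUG]

variable {D : ChevalleyDatum} {T : Tab} {C : Tab.Cover} (h : Cert D T C)
variable {F : Type*} [Field F] [Fintype F] [CharP F 2]

omit [Fintype F] in
include h in
/-- The positive root elements are involutions. -/
theorem posUnipotent_le_good : D.posUnipotent F ≤ goodGrp (D.posUnipotent F) := by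
  rw [h.posUnipotent_eq]
  refine (Subgroup.closure_le _).2 ?_
  rintro _ ⟨r, hr, t, rfl⟩
  refine mem_goodGrp_of_sq (X_mem_gen D hr t) ?_
  rw [h.X_add hr.2, CharTwo.add_self_eq_zero, h.X_zero hr.2]

include h in
theorem sqComm_cert (hD : D ∈ [chevG2, chevB2, chevD4, chevF4, chevE6, chevE7, chevE8]) :
    SqComm ↥(D.group F) := by
  haveI := Fact.mk Nat.prime_two
  obtain ⟨P, hP⟩ := Cfsg.Agent.S2326.result (F := F) 2 D hD
  have hU : IsPGroup 2 ↥(D.posUnipotent F) := by
    obtain ⟨m, -, hm⟩ := FiniteField.card F 2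
    exact IsPGroup.of_card (n := (m : ℕ) * T.half) (by rw [h.card_posUnipotent, hm, ← pow_mul])
  exact SqComm.of_le h.posUnipotent_le_group hU (hP ▸ P.not_dvd_index) (posUnipotent_le_good h)

end CfsgLib.SylowTwoElem
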