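import Cfsg.Agent.Lib.SylowTwoElem.Polar
import Cfsg.Agent.Lib.CharP.Classical

/-!
The symplectic, unitary and orthogonal groups in characteristic two.
-/

set_option autoImplicit false
set_option linter.style.haveILetI false
set_option linter.unusedSectionVars false

open Cfsg
open scoped Matrix

namespace CfsgLib.SylowTwoElem

open CfsgLib.SteinbergPolar

variable {F : Type*} [Field F] [Fintype F] [CharP F 2]

theorem sqComm_psp (m : ℕ) : SqComm (Cfsg.PSp m F) := by
  classical
  haveI := Fact.mk Nat.prime_two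
  let _ : Finite (Matrix.symplecticGroup (Fin m) F) := inferInstance
  let M : Matrix.symplecticGroup (Fin m) F →* Matrix (Fin m ⊕ Fin m) (Fin m ⊕ Fin m) F :=
    (Matrix.symplecticGroup (Fin m) F).subtype
  let Sp := CfsgLib.ClassicalAut.Symp.space (F := F) (m := m)
  let ρ := CfsgLib.SteinbergPolar.ofMatrix M
  have hinj : Function.Injective ρ :=
    CfsgLib.SteinbergPolar.ofMatrix_injective Subtype.val_injective
  have hinv : ∀ g a b, Sp.h (ρ g a) (ρ g b) = Sp.h a b :=
    fun g a b => CfsgLib.Classical.SympTrans.f_app g a b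
  let S := CfsgLib.SteinbergPolar.sesqSetting Sp ρ hinj hinv fun T hT _ =>
    ⟨⟨LinearMap.toMatrix' T, CfsgLib.Classical.SympTrans.mem_iff_f.2 fun u v => by
      simp only [LinearMap.toMatrix'_mulVec]; exact hT u v⟩,
      fun v => LinearMap.toMatrix'_mulVec T v⟩
  refine SqComm.of_surjective ?_ (QuotientGroup.mk' _) (QuotientGroup.mk'_surjective _)
  refine sqComm_of_setting S Sp.bar.toRingHom Sp.add_right Sp.smul_right (fun a b h => ?_)
    (fun a ha => absurd (CfsgLib.Classical.SympTrans.f_self a) ha)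
    fun u hu k hk => CfsgLib.SteinbergPolar.sesq_good 2 Sp ρ hinj hinv hu k hk
  have h' : Sp.h a b = 1 := h
  show Sp.h b a = 1
  rw [Sp.swap a b, h', map_one, mul_one]
  exact CharTwo.neg_eq 1

theorem sqComm_psu {n q : ℕ} (hF : Fintype.card F = q ^ 2) : SqComm (Cfsg.PSU n F q) := by
  classical
  haveI := Fact.mk Nat.prime_two
  obtain ⟨K⟩ := CfsgLib.Classical.Herm.exists_conj_of_card hF
  let M : Cfsg.SU n F q →* Matrix (Fin n) (Fin n) F :=
    (Cfsg.slToMat n F).comp (Cfsg.SU n F q).subtype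
  let U := CfsgLib.ClassicalAut.Unitary.space (n := n) K
  let ρ := CfsgLib.SteinbergPolar.ofMatrix M
  have hinj : Function.Injective ρ :=
    CfsgLib.SteinbergPolar.ofMatrix_injective fun g h e => Subtype.ext (Subtype.ext e)
  have hinv : ∀ g a b, U.h (ρ g a) (ρ g b) = U.h a b := fun g a b => g.2 a b
  let S := CfsgLib.SteinbergPolar.sesqSetting U ρ hinj hinv fun T hT h3 =>
    ⟨⟨⟨LinearMap.toMatrix' T, CfsgLib.SteinbergPolar.det_eq_one_of_unipotent 2 T h3⟩,
      fun u v => by
        show Cfsg.hermForm n F q (LinearMap.toMatrix' T *ᵥ u) (LinearMap.toMatrix' T *ᵥ v) = _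
        simp only [LinearMap.toMatrix'_mulVec]
        exact hT u v⟩, fun v => LinearMap.toMatrix'_mulVec T v⟩
  refine SqComm.of_surjective ?_ (QuotientGroup.mk' _) (QuotientGroup.mk'_surjective _)
  refine sqComm_of_setting S U.bar.toRingHom U.add_right U.smul_right (fun a b h => ?_)
    (fun a _ => ?_) fun u hu k hk => CfsgLib.SteinbergPolar.sesq_good 2 U ρ hinj hinv hu k hk
  · have h' : U.h a b = 1 := h
    show U.h b a = 1
    rw [U.swap a b, h', map_one, mul_one]
    rfl
  · obtain ⟨y, hy⟩ := K.exists_trace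
    have hb : K.bar (y + K.bar y) = y + K.bar y := by rw [map_add, K.bar_bar, add_comm]
    refine ⟨y / (y + K.bar y), ?_⟩
    show y / (y + K.bar y) + K.bar (y / (y + K.bar y)) = 1
    rw [map_div₀, hb, ← add_div, div_self hy]

section Orth

open CfsgLib.Orth

variable {ι : Type} [Fintype ι] [DecidableEq ι] {Q : QuadraticForm F (ι → F)}

theorem sqComm_orth (hB : Nondeg Q) (hn : 5 ≤ Module.finrank F (ι → F)) :
    SqComm (Cfsg.POmega F ⇑Q) := by
  classical
  haveI := Fact.mk Nat.prime_two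
  let S := orthSetting hB (Or.inl hn)
  refine SqComm.of_surjective ?_ (QuotientGroup.mk' _) (QuotientGroup.mk'_surjective _)
  refine sqComm_of_setting S (RingHom.id F) b_add_right b_smul_right
    (fun a b h => (b_comm b a).trans h) (fun a ha => absurd ?_ ha)
    fun u hu k hk => orth_good 2 hB hu k hk
  show QuadraticMap.polar ⇑Q a a = 0
  rw [QuadraticMap.polar_self, two_smul, CharTwo.add_self_eq_zero]

end Orth

theorem sqComm_plus {F : Type} [Field F] [Fintype F] [CharP F 2] {m : ℕ} (hm : 4 ≤ m) :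
    SqComm (Cfsg.POmega F (Cfsg.quadFormPlus m F)) := by
  classical
  obtain ⟨Q, hQ, hB⟩ := CfsgLib.Orth.exists_quadForm_plus (F := F) m
  rw [← hQ]
  exact sqComm_orth hB (by rw [Module.finrank_pi, Fintype.card_sum, Fintype.card_fin]; omega)

theorem sqComm_minus {F : Type} [Field F] [Fintype F] [CharP F 2] {m : ℕ} (hm : 4 ≤ m) {a b : F}
    (hab : ∀ z₁ z₂ : F, z₁ ^ 2 + a * z₁ * z₂ + b * z₂ ^ 2 = 0 → z₁ = 0 ∧ z₂ = 0) :
    SqComm (Cfsg.POmega F (Cfsg.quadFormMinus (m - 1) F a b)) := by
  classical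
  obtain ⟨Q, hQ, hB⟩ := CfsgLib.Orth.exists_quadForm_minus (m - 1) hab
  rw [← hQ]
  exact sqComm_orth hB (by
    rw [Module.finrank_pi, Fintype.card_sum, Fintype.card_sum, Fintype.card_fin, Fintype.card_fin]
    omega)

end CfsgLib.SylowTwoElem
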