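import Cfsg.Agent.Lib.SylowTwoElem.Basic
import Cfsg.Agent.Lib.Chev.TwistGroup

/-!
Twisted groups in characteristic two whose orbits of positive roots have commuting root elements.
-/

set_option autoImplicit false
set_option linter.style.haveILetI false

namespace CfsgLib.SylowTwoElem

open Cfsg.Lie CfsgLib.Chev

/-- The roots are positive and no two of them give a root. -/
def chkAbel (T : Tab) (l : List ℕ) : Bool :=
  l.all fun a => decide (T.half ≤ a ∧ a < T.n) &&
    l.all fun b => decide (a = b) || (T.commTerms a b).isEmpty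

variable {D : ChevalleyDatum} {T : Tab} {C : Tab.Cover} {h : Cert D T C}
variable {F : Type*} [Field F]

include h in
theorem gen_abel_commute {l : List ℕ} (hc : chkAbel T l = true) {x y : GL D.Idx F}
    (hx : x ∈ gen D F {r | r ∈ l}) (hy : y ∈ gen D F {r | r ∈ l}) : Commute x y := by
  simp only [chkAbel, List.all_eq_true, Bool.and_eq_true, decide_eq_true_eq, Bool.or_eq_true,
    List.isEmpty_iff] at hc
  have key : ∀ s₁ ∈ {g : GL D.Idx F | ∃ r ∈ {r | r ∈ l}, ∃ t : F, g = X D r t},
      ∀ s₂ ∈ {g : GL D.Idx F | ∃ r ∈ {r | r ∈ l}, ∃ t : F, g = X D r t}, Commute s₁ s₂ := by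
    rintro _ ⟨r, hr, t, rfl⟩ _ ⟨s, hs, u, rfl⟩
    obtain ⟨⟨hr1, hr2⟩, hr3⟩ := hc r hr
    rcases eq_or_ne r s with rfl | hne
    · show X D r t * X D r u = X D r u * X D r t
      rw [h.X_add hr2, h.X_add hr2, add_comm]
    · have hs' := (hc s hs).1
      have e := h.X_conj hr2 hs'.2 hne.symm (h.posSet_neg_ne (r := r) (s := s) ⟨hr1, hr2⟩ hs') t u
      rw [(hr3 s hs).resolve_left hne, List.map_nil, List.prod_nil, mul_one, ← h.X_inv hr2,
        mul_assoc, inv_mul_eq_iff_eq_mul] at e
      exact e.symm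
  refine Subgroup.closure_induction₂ (p := fun a b _ _ => Commute a b)
    (fun a b ha hb => key a ha b hb) (fun a _ => Commute.one_left a) (fun a _ => Commute.one_right a)
    (fun a b c _ _ _ h1 h2 => h1.mul_left h2) (fun a b c _ _ _ h1 h2 => h1.mul_right h2)
    (fun a b _ _ h1 => h1.inv_left) (fun a b _ _ h1 => h1.inv_right) hx hy

variable [CharP F 2]

include h in
theorem gen_abel_sq {l : List ℕ} (hc : chkAbel T l = true) {x : GL D.Idx F}
    (hx : x ∈ gen D F {r | r ∈ l}) : x * x = 1 := by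
  have hl : ∀ a ∈ l, T.half ≤ a ∧ a < T.n := fun a ha => by
    simp only [chkAbel, List.all_eq_true, Bool.and_eq_true, decide_eq_true_eq] at hc
    exact (hc a ha).1
  induction hx using Subgroup.closure_induction with
  | mem g hg =>
    obtain ⟨r, hr, t, rfl⟩ := hg
    rw [h.X_add (hl r hr).2, CharTwo.add_self_eq_zero, h.X_zero (hl r hr).2]
  | one => exact mul_one 1
  | mul a b ha hb e1 e2 =>
    rw [(gen_abel_commute (h := h) hc ha hb).symm.mul_mul_mul_comm, e1, e2, mul_one]
  | inv a _ e => rw [← mul_inv_rev, e, inv_one]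

/-- All orbits of a datum with their classes. -/
def chkAbelOrbs (T : Tab) (ρ : ℕ → ℕ) (L : List Orb) : Bool :=
  L.all fun o => chkAbel T (o.list ρ ++ o.tail)

/-- The fixed points in `U` are generated by involutions. -/
theorem fix_pos_le_good (E : Endo h F) [Finite F] {d : _} (hd : E.DataOK d)
    (hc : chkAbelOrbs T E.ρ d.L = true) {K : Subgroup (GL D.Idx F)} (hl : ∀ o ∈ d.L, E.Lift K o)
    {e Q : ℕ} (hcard : ∀ o ∈ d.L, Nat.card (E.Adm o) ^ e = Q ^ o.size) :
    E.fix ⊓ D.posUnipotent F ≤ goodGrp (E.fix ⊓ D.posUnipotent F) := by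
  refine (E.fix_posUnipotent hd (K := goodGrp (E.fix ⊓ D.posUnipotent F)) (fun o ho t ht => ?_)
    hcard).1
  obtain ⟨u, -, huF, huG, huC⟩ := hl o ho t ht
  have ho' : chkAbel T (o.list E.ρ ++ o.tail) = true := List.all_eq_true.1 hc o ho
  have e : o.cls E.ρ = {r | r ∈ o.list E.ρ ++ o.tail} := by
    ext r; simp [Orb.cls]
  refine ⟨u, mem_goodGrp_of_sq ⟨huF, ?_⟩ (gen_abel_sq (h := h) ho' (e ▸ huG)), huF, huG, huC⟩
  rw [SetLike.mem_coe, h.posUnipotent_eq]
  refine gen_mono D (fun r hr => ?_) huG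
  rw [e] at hr
  simp only [chkAbel, List.all_eq_true, Bool.and_eq_true, decide_eq_true_eq] at ho'
  exact (ho' r hr).1

end CfsgLib.SylowTwoElem
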