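import Cfsg.Agent.Lib.SylowTwoElem.Basic
import Cfsg.Agent.Lib.AutPSL.Sylow

/-!
The special linear groups in characteristic two.
-/

set_option autoImplicit false
set_option linter.style.haveILetI false
set_option linter.unusedSectionVars false

namespace CfsgLib.SylowTwoElem

open Matrix CfsgLib.AutPSL
open scoped MatrixGroups

variable {n : ℕ} {F : Type*} [Field F] [Finite F] [CharP F 2]

theorem transvection_good {i j : Fin n} (hij : i < j) (a : F) :
    Matrix.SpecialLinearGroup.transvection hij.ne a ∈ goodGrp (unitri : Subgroup SL(n, F)) := by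
  refine mem_goodGrp_of_sq (transvection_mem_unitri hij a) (Subtype.ext ?_)
  rw [Matrix.SpecialLinearGroup.coe_mul, Matrix.SpecialLinearGroup.transvection_coe,
    Matrix.SpecialLinearGroup.coe_one, add_mul, one_mul, mul_add, mul_one,
    Matrix.single_mul_single_of_ne (h := hij.ne'), add_zero, add_assoc, ← Matrix.single_add,
    CharTwo.add_self_eq_zero, Matrix.single_zero, add_zero]

theorem unitri_le_good : (unitri : Subgroup SL(n, F)) ≤ goodGrp unitri := by
  classical
  let supp : SL(n, F) → Finset (Fin n × Fin n) := fun x =>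
    Finset.univ.filter fun q => q.1 < q.2 ∧ (x : Matrix (Fin n) (Fin n) F) q.1 q.2 ≠ 0
  have key : ∀ (k : ℕ) (x : SL(n, F)), x ∈ unitri → (supp x).card = k → x ∈ goodGrp unitri := by
    intro k
    induction k using Nat.strong_induction_on with
    | h k ih =>
    intro x hx hk
    rcases (supp x).eq_empty_or_nonempty with h0 | h0
    · convert one_mem (goodGrp (unitri : Subgroup SL(n, F)))
      ext i j
      rw [Matrix.SpecialLinearGroup.coe_one, Matrix.one_apply]
      rcases lt_or_ge i j with h | h
      · rw [if_neg h.ne]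
        by_contra hne
        have hm : (i, j) ∈ supp x := Finset.mem_filter.2 ⟨Finset.mem_univ (i, j), h, hne⟩
        rw [h0] at hm
        exact Finset.notMem_empty _ hm
      · exact hx i j h
    obtain ⟨⟨i, j⟩, hm, hmax⟩ := Finset.exists_max_image (supp x) Prod.fst h0
    obtain ⟨-, hij, hne⟩ := Finset.mem_filter.1 hm
    dsimp only at hij hne
    set t := Matrix.SpecialLinearGroup.transvection hij.ne ((x : Matrix (Fin n) (Fin n) F) i j) with ht
    have hrow : ∀ c, (x : Matrix (Fin n) (Fin n) F) j c = if j = c then 1 else 0 := by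
      intro c
      rcases lt_or_ge j c with h | h
      · rw [if_neg h.ne]
        by_contra hne'
        exact absurd (hmax (j, c) (Finset.mem_filter.2 ⟨Finset.mem_univ _, h, hne'⟩)) (not_le.2 hij)
      · exact hx j c h
    have hval : ∀ r c, ((t * x : SL(n, F)) : Matrix (Fin n) (Fin n) F) r c =
        (x : Matrix (Fin n) (Fin n) F) r c + if r = i ∧ c = j then (x : Matrix (Fin n) (Fin n) F) i j else 0 := by
      intro r c
      rw [Matrix.SpecialLinearGroup.coe_mul, ht, Matrix.SpecialLinearGroup.transvection_coe,
        add_mul, one_mul, Matrix.add_apply]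
      congr 1
      by_cases hr : r = i
      · subst hr
        rw [Matrix.single_mul_apply_same, hrow, mul_ite, mul_one, mul_zero]
        exact if_congr ⟨fun e => ⟨rfl, e.symm⟩, fun e => e.2.symm⟩ rfl rfl
      · rw [Matrix.single_mul_apply_of_ne _ _ _ _ _ hr, if_neg fun e => hr e.1]
    have hlt : supp (t * x) ⊂ supp x := by
      rw [Finset.ssubset_iff_of_subset ?_]
      · refine ⟨(i, j), hm, fun h => (Finset.mem_filter.1 h).2.2 ?_⟩
        rw [hval, if_pos ⟨rfl, rfl⟩, CharTwo.add_self_eq_zero]
      · rintro ⟨r, c⟩ h
        obtain ⟨-, hrc, hn⟩ := Finset.mem_filter.1 h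
        refine Finset.mem_filter.2 ⟨Finset.mem_univ _, hrc, fun e => hn ?_⟩
        dsimp only at e ⊢
        rw [hval, e]
        split
        · rename_i he
          rw [he.1, he.2] at e
          exact absurd e hne
        · rw [add_zero]
    have h1 := ih _ (hk ▸ Finset.card_lt_card hlt) (t * x)
      (mul_mem (transvection_mem_unitri hij _) hx) rfl
    have h2 := mul_mem (inv_mem (transvection_good hij ((x : Matrix (Fin n) (Fin n) F) i j))) h1
    rwa [← ht, inv_mul_cancel_left] at h2
  exact fun x hx => key _ x hx rfl

theorem sqComm_psl : SqComm PSL(n, F) := by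
  haveI := Fact.mk Nat.prime_two
  refine SqComm.of_surjective ?_ (QuotientGroup.mk' _) (QuotientGroup.mk'_surjective _)
  let P : Sylow 2 SL(n, F) := Sylow.ofCard unitri (card_unitri_eq_pow 2)
  exact SqComm.of_subgroup unitri P.2 P.not_dvd_index unitri_le_good

end CfsgLib.SylowTwoElem
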