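import Cfsg.Agent.Lib.SylowTwoElem.Basic
import Cfsg.Agent.Lib.SteinbergPolar.Sums
import Cfsg.Agent.Lib.SteinbergPolar.Main
import Cfsg.Agent.Lib.CharP.Polar

/-!
In a group of isometries of a polar space in characteristic two, with enough elations, a Sylow
two-subgroup is generated by elations, and the square of an elation is a commutator of two of them.
-/

set_option autoImplicit false
set_option linter.style.haveILetI false
set_option linter.unusedSectionVars false

open scoped commutatorElement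

namespace CfsgLib.SylowTwoElem

open CfsgLib.SteinbergPolar

variable {F V G : Type*} [Field F] [AddCommGroup V] [Module F V] [Group G]

/-- The elements fixing a subspace pointwise. -/
def fixPt (S : Setting F V G) (A : Submodule F V) : Subgroup G where
  carrier := {g | ∀ a ∈ A, S.ρ g a = a}
  one_mem' := fun a _ => by simp
  mul_mem' := fun {g h} hg hh a ha => by
    rw [map_mul, LinearEquiv.mul_apply, hh a ha, hg a ha]
  inv_mem' := fun {g} hg a ha => by
    conv_lhs => rw [← hg a ha, ← LinearEquiv.mul_apply, ← map_mul, inv_mul_cancel, map_one]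
    rfl

variable [Finite V] [Finite G] [CharP F 2] (S : Setting F V G) (σ : F →+* F)
  (hadd : ∀ a b c, S.f a (b + c) = S.f a b + S.f a c)
  (hsmul : ∀ (c : F) a b, S.f a (c • b) = σ c * S.f a b)
  (hswap : ∀ a b, S.f a b = 1 → S.f b a = 1)
  (hlam : ∀ a, S.f a a ≠ 0 → ∃ l : F, l + σ l = 1)

/-- Two elements agree when they agree on `o` and on the orthogonal of `x`. -/
theorem ext_on {x o : V} (hox : S.f o x = 1) {g h : G} (ho : S.ρ g o = S.ρ h o)
    (hv : ∀ v, S.f v x = 0 → S.ρ g v = S.ρ h v) : g = h := by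
  refine S.ρ_inj (LinearEquiv.ext fun v => ?_)
  have h1 := hv (v - S.f v x • o) (by rw [S.f_sub, S.f_smul, hox, mul_one, sub_self])
  rwa [map_sub, map_sub, map_smul, map_smul, ho, sub_left_inj] at h1

include hadd hsmul in
/-- The action of an elation on a vector orthogonal to the pair. -/
theorem elation_coef {x o o' b : V} {e : F} {k : G} (hk : S.IsSpec x o o' k)
    (ho' : o' = o + b + e • x) (hbx : S.f b x = 0) (hxo : S.f x o = 1) {v : V}
    (hvx : S.f v x = 0) (hvo : S.f v o = 0) : S.ρ k v = v + (S.f v b) • x := by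
  obtain ⟨hx, ho, -, -, -, hkx, hko, hperp, -⟩ := hk
  obtain ⟨d, hd⟩ := hperp v hvx
  have hxb : S.f x b = 0 := S.f_symm0 _ _ hbx
  have h := S.f_inv k v o
  rw [hko, hd, ho', S.f_add, hadd, hadd, hadd, hadd, hsmul, hsmul, S.f_smul, S.f_smul, S.f_smul,
    hvo, hvx, hxo, hxb, S.sg_self x hx] at h
  have hd' : d = S.f v b := by linear_combination h - CharTwo.add_self_eq_zero (S.f v b)
  rw [hd, hd']

variable {A : Submodule F V} {R : Subgroup G}

include hadd hsmul hswap hlam in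
/-- The square of an elation is a commutator of elations. -/
theorem spec_good {x o o' : V} {g : G} (hg : S.IsSpec x o o' g) (hgR : g ∈ R)
    (hxA : x ∈ S.perp A) (hoA : o ∈ S.perp A) (hoA' : o' ∈ S.perp A)
    (hN : ∀ k o₁ o₂, S.IsSpec x o₁ o₂ k → o₁ ∈ S.perp A → o₂ ∈ S.perp A → k ∈ R) :
    g ∈ goodGrp R := by
  obtain ⟨hx, ho, ho', hox, ho'x, hgx, hgo, hperp, -⟩ := id hg
  have hxo : S.f x o = 1 := hswap _ _ hox
  have h2 : ∀ u : V, u + u = 0 := fun u => by
    rw [← two_smul F, CharTwo.two_eq_zero, zero_smul]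
  set c := S.f (o' - o) o with hc
  set a := o' - o - c • x with ha
  have hao : S.f a o = 0 := by rw [ha, S.f_sub, S.f_smul, hxo, mul_one, hc, sub_self]
  have hax : S.f a x = 0 := by
    rw [ha, S.f_sub, S.f_sub, S.f_smul, hox, ho'x, S.sg_self x hx, mul_zero, sub_self, sub_self]
  have hoe : o' = o + a + c • x := by rw [ha]; abel
  have haA : a ∈ S.perp A :=
    sub_mem (sub_mem hoA' hoA) (Submodule.smul_mem _ _ hxA)
  have hga : S.ρ g a = a + S.f a a • x := elation_coef S σ hadd hsmul hg hoe hax hxo hax hao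
  set d := S.f a a with hd
  have hsqv : ∀ v, S.f v x = 0 → S.ρ (g ^ 2) v = v := fun v hv => by
    obtain ⟨t, ht⟩ := hperp v hv
    rw [pow_two, map_mul, LinearEquiv.mul_apply, ht, map_add, map_smul, hgx, ht, add_assoc, h2,
      add_zero]
  have hsqo : S.ρ (g ^ 2) o = o + d • x := by
    rw [pow_two, map_mul, LinearEquiv.mul_apply, hgo]
    conv_lhs => rw [hoe]
    rw [map_add, map_add, map_smul, hgx, hga, hgo, hoe]
    have e1 := h2 a
    have e2 := h2 (c • x)
    linear_combination (norm := module) e1 + e2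
  refine ⟨hgR, ?_⟩
  rcases eq_or_ne d 0 with hd0 | hd0
  · rw [show g ^ 2 = 1 from ext_on S hox (by rw [hsqo, hd0, zero_smul, add_zero, map_one]; rfl)
      fun v hv => by rw [hsqv v hv, map_one]; rfl]
    exact one_mem _
  obtain ⟨l, hl⟩ := hlam a hd0
  obtain ⟨e, he⟩ := S.adjust (o + l • a) x hx (by
    rw [S.f_add, S.f_smul, hax, hox, mul_zero, add_zero]; exact one_ne_zero)
  have hbx : S.f (l • a) x = 0 := by rw [S.f_smul, hax, mul_zero]
  have ho2x : S.f (o + l • a + e • x) x = 1 := by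
    rw [S.f_add, S.f_add, hbx, S.f_smul, S.sg_self x hx, hox, mul_zero, add_zero, add_zero]
  obtain ⟨k, hk⟩ := S.exists_spec hx ho he hox ho2x
  have hkR : k ∈ R := hN k o _ hk hoA
    (add_mem (add_mem hoA (Submodule.smul_mem _ _ haA)) (Submodule.smul_mem _ _ hxA))
  obtain ⟨-, -, -, -, -, hkx, hko, hkperp, -⟩ := id hk
  have hka : S.ρ k a = a + (σ l * d) • x := by
    rw [elation_coef S σ hadd hsmul hk rfl hbx hxo hax hao, hsmul]
  have hcom : g * k = g ^ 2 * (k * g) := by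
    refine ext_on S hox ?_ fun v hv => ?_
    · have e1 : S.ρ (g * k) o = o + a + c • x + l • (a + d • x) + e • x := by
        rw [map_mul, LinearEquiv.mul_apply, hko, map_add, map_add, map_smul, map_smul, hga, hgx,
          hgo, hoe]
      have e2 : S.ρ (k * g) o = o + l • a + e • x + (a + (σ l * d) • x) + c • x := by
        rw [map_mul, LinearEquiv.mul_apply, hgo, hoe, map_add, map_add, map_smul, hka, hkx, hko]
      have e3 : S.ρ (g ^ 2) (o + l • a + e • x + (a + (σ l * d) • x) + c • x) =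
          o + d • x + l • a + e • x + (a + (σ l * d) • x) + c • x := by
        simp only [map_add, map_smul, hsqo, hsqv a hax, hsqv x (S.sg_self x hx)]
      rw [e1, map_mul (S.ρ) (g ^ 2), LinearEquiv.mul_apply, e2, e3]
      have e4 : (l + σ l + 1) * d = 0 := by rw [hl, CharTwo.add_self_eq_zero, zero_mul]
      have e5 : (l * d) • x = d • x + (σ l * d) • x := by
        rw [← add_smul]
        congr 1
        linear_combination e4 - CharTwo.add_self_eq_zero (d + σ l * d)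
      rw [smul_add, smul_smul, e5]
      abel
    · obtain ⟨t, ht⟩ := hperp v hv
      obtain ⟨t', ht'⟩ := hkperp v hv
      have hv' : ∀ s : F, S.f (v + s • x) x = 0 := fun s => by
        rw [S.f_add, S.f_smul, hv, S.sg_self x hx, mul_zero, add_zero]
      have e2 : S.ρ (k * g) v = v + t' • x + t • x := by
        rw [map_mul, LinearEquiv.mul_apply, ht, map_add, map_smul, hkx, ht']
      rw [map_mul (S.ρ) (g ^ 2), LinearEquiv.mul_apply, e2, map_add, hsqv _ (hv' _), map_smul,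
        hsqv x (S.sg_self x hx), map_mul, LinearEquiv.mul_apply, ht', map_add, map_smul, hgx, ht]
      abel
  rw [show g ^ 2 = ⁅g, k⁆ by
    rw [commutatorElement_def, hcom]; group]
  exact Subgroup.commutator_mem_commutator hgR hkR

/-- A subgroup maximal among the two-subgroups fixing `A`. -/
structure MaxIn (A : Submodule F V) (R : Subgroup G) : Prop where
  two : IsPGroup 2 R
  le : R ≤ fixPt S A
  max : ∀ T : Subgroup G, IsPGroup 2 T → T ≤ fixPt S A → R ≤ T → T ≤ R

variable (hgood : ∀ u : G, u ≠ 1 → ∀ k : ℕ, u ^ 2 ^ k = 1 →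
    ∃ r, r ≠ 0 ∧ S.sg r ∧ S.ρ u r = r ∧ ∀ v, S.ρ u v = v → S.f v r = 0)

include hgood in
/-- A nontrivial two-subgroup fixing `A` fixes a singular vector orthogonal to `A`. -/
theorem exists_fixed {T : Subgroup G} (hT : IsPGroup 2 T) (hne : T ≠ ⊥) (hA : T ≤ fixPt S A) :
    ∃ x, x ≠ 0 ∧ S.sg x ∧ x ∈ S.perp A ∧ ∀ t ∈ T, S.ρ t x = x := by
  haveI := Fact.mk Nat.prime_two
  have sing : ∀ X : Set G, ∃ W : Submodule F V, ∀ r, r ∈ W ↔
      (∀ t ∈ X, S.ρ t r = r) ∧ S.sg r ∧ ∀ v, (∀ t ∈ X, S.ρ t v = v) → S.f v r = 0 := by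
    intro X
    refine ⟨{ carrier := {r | (∀ t ∈ X, S.ρ t r = r) ∧ S.sg r ∧
      ∀ v, (∀ t ∈ X, S.ρ t v = v) → S.f v r = 0}, add_mem' := ?_, zero_mem' := ?_, smul_mem' := ?_ },
      fun r => Iff.rfl⟩
    · rintro a b ⟨ha1, ha2, ha3⟩ ⟨hb1, hb2, hb3⟩
      refine ⟨fun t ht => by rw [map_add, ha1 t ht, hb1 t ht],
        S.sg_add a b ha2 hb2 (hb3 a ha1), fun v hv => S.f_symm0 _ _ ?_⟩
      rw [S.f_add, S.f_symm0 _ _ (ha3 v hv), S.f_symm0 _ _ (hb3 v hv), add_zero]
    · exact ⟨fun t _ => map_zero _, S.sg_zero, fun v _ => S.f_symm0 _ _ (S.f_zero v)⟩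
    · rintro c a ⟨ha1, ha2, ha3⟩
      refine ⟨fun t ht => by rw [map_smul, ha1 t ht], S.sg_smul c a ha2,
        fun v hv => S.f_symm0 _ _ ?_⟩
      rw [S.f_smul, S.f_symm0 _ _ (ha3 v hv), mul_zero]
  haveI : Nontrivial T := (Subgroup.nontrivial_iff_ne_bot T).mpr hne
  haveI := hT.center_nontrivial
  obtain ⟨z, hz1⟩ := exists_ne (1 : Subgroup.center T)
  have hzne : (z : G) ≠ 1 := fun e => hz1 (Subtype.ext (Subtype.ext e))
  obtain ⟨k, hk⟩ := hT (z : T)
  obtain ⟨r₀, hr0, hrs, hrfix, hrperp⟩ := hgood _ hzne k (by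
    have := congrArg Subtype.val hk
    simpa using this)
  obtain ⟨Z, hZmem⟩ := sing ({(z : G)} : Set G)
  have hr₀Z : r₀ ∈ Z := (hZmem r₀).2 ⟨fun t ht => by rw [Set.mem_singleton_iff.1 ht]; exact hrfix,
    hrs, fun v hv => hrperp v (hv _ rfl)⟩
  have hstab : ∀ (t : T), ∀ r ∈ Z, S.ρ t r ∈ Z := by
    intro t r hr
    obtain ⟨h1, h2, h3⟩ := (hZmem r).1 hr
    have hc : Commute (z : G) (t : G) :=
      congrArg Subtype.val (Subgroup.mem_center_iff.1 z.2 t).symm
    refine (hZmem _).2 ⟨fun u hu => ?_, S.sg_inv _ _ h2, fun v hv => ?_⟩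
    · rw [Set.mem_singleton_iff.1 hu, ← LinearEquiv.mul_apply, ← map_mul, hc.eq, map_mul,
        LinearEquiv.mul_apply, h1 _ rfl]
    · rw [← S.f_inv (t : G)⁻¹, ← LinearEquiv.mul_apply (S.ρ (t : G)⁻¹), ← map_mul,
        inv_mul_cancel, map_one]
      refine h3 _ fun u hu => ?_
      rw [Set.mem_singleton_iff.1 hu, ← LinearEquiv.mul_apply, ← map_mul, hc.inv_right.eq,
        map_mul, LinearEquiv.mul_apply, hv _ rfl]
  let act : MulAction T Z :=
    { smul := fun t r => ⟨S.ρ t r, hstab t r r.2⟩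
      one_smul := fun r => Subtype.ext (by show S.ρ (1 : T) (r : V) = r; simp)
      mul_smul := fun a b r => Subtype.ext (by
        show S.ρ (a * b : T) (r : V) = S.ρ a (S.ρ b r)
        simp [Subgroup.coe_mul]) }
  have hdvd : 2 ∣ Nat.card Z := by
    have hpr : 2 • (⟨r₀, hr₀Z⟩ : Z) = 0 := by
      refine Subtype.ext ?_
      show 2 • r₀ = 0
      rw [← Nat.cast_smul_eq_nsmul F, CharP.cast_eq_zero, zero_smul]
    have ho : addOrderOf (⟨r₀, hr₀Z⟩ : Z) = 2 := by
      rcases (Nat.dvd_prime Nat.prime_two).1 (addOrderOf_dvd_of_nsmul_eq_zero hpr) with h | h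
      · exact absurd (congrArg Subtype.val (AddMonoid.addOrderOf_eq_one_iff.1 h)) hr0
      · exact h
    exact ho ▸ addOrderOf_dvd_natCard _
  obtain ⟨b, hb, hb0⟩ := @IsPGroup.exists_fixed_point_of_prime_dvd_card_of_fixed_point
    2 T _ hT _ Z act _ hdvd (0 : Z) (fun t => Subtype.ext (map_zero (S.ρ (t : G))))
  have hfix : ∀ t ∈ T, S.ρ t (b : V) = b := fun t ht => congrArg Subtype.val (hb ⟨t, ht⟩)
  obtain ⟨-, h2, h3⟩ := (hZmem _).1 b.2
  refine ⟨b, fun e => hb0 (Subtype.ext e.symm), h2, fun a ha => S.f_symm0 _ _ (h3 a ?_), hfix⟩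
  intro u hu
  rw [Set.mem_singleton_iff.1 hu]
  exact hA (z : T).2 a ha

include hadd hsmul hswap hlam hgood in
/-- Maximal two-subgroups fixing `A` are generated by good elations. -/
theorem maxIn_le_good : ∀ (A : Submodule F V), A ⊓ S.perp A = ⊥ → ∀ R, MaxIn S A R →
    R ≤ goodGrp R := by
  intro A
  induction A using WellFoundedGT.induction with
  | ind A IH =>
  intro hA R hR
  rcases eq_or_ne R ⊥ with rfl | hne
  · exact bot_le
  haveI := Fact.mk Nat.prime_two
  obtain ⟨x, hx0, hx, hxA, hRx⟩ := exists_fixed S hgood hR.two hne hR.le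
  have hxnA : x ∉ A := fun h => hx0 ((Submodule.mem_bot F).1 (hA ▸ (⟨h, hxA⟩ : x ∈ A ⊓ S.perp A)))
  obtain ⟨o, ho, hox, hoA⟩ := CharP.exists_partner S σ hadd hsmul hx hxnA hxA
  have hxo : S.f x o = 1 := hswap _ _ hox
  set N := fixPt S A ⊓ S.trans ⊥ x with hNdef
  have hNp : IsPGroup 2 N :=
    (S.isPGroup_trans 2 ⊥ (S.sg_self x hx)).to_le inf_le_right
  have hnorm : ∀ r, r ∈ fixPt S A → S.ρ r x = x → r ∈ Subgroup.normalizer (N : Set G) := by
    intro r hr hrx
    refine Subgroup.mem_normalizer_fintype ?_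
    rintro n ⟨hn, -, hnx, hnp⟩
    have hrx' : S.ρ r⁻¹ x = x := by
      conv_lhs => rw [← hrx, ← LinearEquiv.mul_apply, ← map_mul, inv_mul_cancel, map_one]
      rfl
    have hn' : r * n * r⁻¹ ∈ fixPt S A :=
      mul_mem (mul_mem hr (show n ∈ fixPt S A from hn)) (inv_mem hr)
    refine ⟨hn', S.mem_stab_of_le fun v hv => ?_, ?_, fun v hv => ?_⟩
    · rw [(Submodule.mem_bot F).1 hv, map_zero]; exact zero_mem _
    · rw [map_mul, map_mul, LinearEquiv.mul_apply, LinearEquiv.mul_apply, hrx', hnx, hrx]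
    · have h0 : S.f (S.ρ r⁻¹ v) x = 0 := by rw [← hrx', S.f_inv]; exact hv
      obtain ⟨t, ht⟩ := hnp _ h0
      refine ⟨t, ?_⟩
      rw [map_mul, map_mul, LinearEquiv.mul_apply, LinearEquiv.mul_apply, ht, map_add, map_smul,
        hrx, ← LinearEquiv.mul_apply, ← map_mul, mul_inv_cancel, map_one]
      rfl
  have hNR : N ≤ R :=
    le_sup_right.trans (hR.max (R ⊔ N)
      (IsPGroup.to_sup_of_normal_right' hR.two hNp fun r hr => hnorm r (hR.le hr) (hRx r hr))
      (sup_le hR.le inf_le_left) le_sup_left)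
  have hspecN : ∀ k o₁ o₂, S.IsSpec x o₁ o₂ k → o₁ ∈ S.perp A → o₂ ∈ S.perp A → k ∈ N := by
    intro k o₁ o₂ hk h1 h2
    refine ⟨fun a ha => hk.2.2.2.2.2.2.2.2 a (S.f_symm0 _ _ (hxA a ha)) (S.f_symm0 _ _ (h1 a ha))
      (S.f_symm0 _ _ (h2 a ha)), S.mem_stab_of_le fun v hv => ?_, hk.2.2.2.2.2.1,
      hk.2.2.2.2.2.2.2.1⟩
    rw [(Submodule.mem_bot F).1 hv, map_zero]; exact zero_mem _
  set A' := A ⊔ Submodule.span F {x} ⊔ Submodule.span F {o} with hA'def
  have hxA' : x ∈ A' := Submodule.mem_sup_left (Submodule.mem_sup_right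
    (Submodule.mem_span_singleton_self x))
  have hoA' : o ∈ A' := Submodule.mem_sup_right (Submodule.mem_span_singleton_self o)
  have hAA' : A ≤ A' := le_sup_left.trans le_sup_left
  have hnd : A' ⊓ S.perp A' = ⊥ := by
    rw [eq_bot_iff]
    rintro u ⟨hu, hup⟩
    obtain ⟨w, hw, ow, hto, rfl⟩ := Submodule.mem_sup.1 hu
    obtain ⟨a, ha, sx, hsx, rfl⟩ := Submodule.mem_sup.1 hw
    obtain ⟨t, rfl⟩ := Submodule.mem_span_singleton.1 hto
    obtain ⟨s, rfl⟩ := Submodule.mem_span_singleton.1 hsx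
    have h1 := hup x hxA'
    rw [S.f_add, S.f_add, S.f_smul, S.f_smul, hox, S.sg_self x hx,
      S.f_symm0 _ _ (hxA a ha)] at h1
    have h2 := hup o hoA'
    rw [S.f_add, S.f_add, S.f_smul, S.f_smul, hxo, S.sg_self o ho,
      S.f_symm0 _ _ (hoA a ha)] at h2
    simp only [mul_zero, mul_one, add_zero, zero_add] at h1 h2
    rw [h1, h2, zero_smul, zero_smul, add_zero, add_zero] at hup ⊢
    exact hA.le ⟨ha, fun b hb => hup b (hAA' hb)⟩
  set R' := R ⊓ fixPt S A' with hR'def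
  have hfixA' : ∀ g, g ∈ fixPt S A → S.ρ g x = x → S.ρ g o = o → g ∈ fixPt S A' := by
    intro g hg hgx hgo u hu
    obtain ⟨w, hw, ow, hto, rfl⟩ := Submodule.mem_sup.1 hu
    obtain ⟨a, ha, sx, hsx, rfl⟩ := Submodule.mem_sup.1 hw
    obtain ⟨t, rfl⟩ := Submodule.mem_span_singleton.1 hto
    obtain ⟨s, rfl⟩ := Submodule.mem_span_singleton.1 hsx
    rw [map_add, map_add, map_smul, map_smul, hg a ha, hgx, hgo]
  have hdec : ∀ u ∈ R, ∃ g, g ∈ goodGrp R ∧ g ∈ N ∧ g⁻¹ * u ∈ R' := by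
    intro u hu
    have ho'x : S.f (S.ρ u o) x = 1 := by
      conv_lhs => rw [← hRx u hu, S.f_inv, hox]
    obtain ⟨g, hg⟩ := S.exists_spec hx ho (S.sg_inv u o ho) hox ho'x
    have ho'A : S.ρ u o ∈ S.perp A := fun a ha => by
      rw [← hR.le hu a ha, S.f_inv]; exact hoA a ha
    have hgN := hspecN g o _ hg hoA ho'A
    refine ⟨g, spec_good S σ hadd hsmul hswap hlam hg (hNR hgN) hxA hoA ho'A
      (fun k o₁ o₂ hk h1 h2 => hNR (hspecN k o₁ o₂ hk h1 h2)), hgN,
      show g⁻¹ * u ∈ R from mul_mem (inv_mem (hNR hgN)) hu, hfixA' _ (mul_mem (inv_mem (show g ∈ fixPt S A from hgN.1)) (hR.le hu)) ?_ ?_⟩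
    · rw [map_mul, LinearEquiv.mul_apply, hRx u hu]
      conv_lhs => rw [← hg.2.2.2.2.2.1, ← LinearEquiv.mul_apply, ← map_mul, inv_mul_cancel, map_one]
      rfl
    · rw [map_mul, LinearEquiv.mul_apply]
      conv_lhs => rw [← hg.2.2.2.2.2.2.1, ← LinearEquiv.mul_apply, ← map_mul, inv_mul_cancel, map_one]
      rfl
  have hR' : MaxIn S A' R' := by
    refine ⟨hR.two.to_le inf_le_left, inf_le_right, fun T hT hTA hR'T => le_inf ?_ hTA⟩
    have hTA0 : T ≤ fixPt S A := fun t ht a ha => hTA ht a (hAA' ha)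
    refine le_sup_left.trans (hR.max (T ⊔ N)
      (IsPGroup.to_sup_of_normal_right' hT hNp fun t ht => hnorm t (hTA0 ht) (hTA ht x hxA'))
      (sup_le hTA0 inf_le_left) fun u hu => ?_)
    obtain ⟨g, -, hgN, hgu⟩ := hdec u hu
    rw [← mul_inv_cancel_left g u]
    exact mul_mem (Subgroup.mem_sup_right hgN) (Subgroup.mem_sup_left (hR'T hgu))
  intro u hu
  obtain ⟨g, hg, -, hgu⟩ := hdec u hu
  rw [← mul_inv_cancel_left g u]
  refine mul_mem hg (goodGrp_mono inf_le_left (IH A' (lt_of_le_of_ne hAA' fun e => hxnA ?_) hnd R' hR' hgu))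
  rw [e]; exact hxA'

include hadd hsmul hswap hlam hgood in
/-- Sylow two-subgroups have elementary abelian abelianisation. -/
theorem sqComm_of_setting : SqComm G := by
  haveI := Fact.mk Nat.prime_two
  obtain ⟨P⟩ := (inferInstance : Nonempty (Sylow 2 G))
  refine SqComm.of_subgroup (P : Subgroup G) P.2 P.not_dvd_index
    (maxIn_le_good S σ hadd hsmul hswap hlam hgood ⊥ (bot_inf_eq _) _
      ⟨P.2, fun g _ a ha => by rw [(Submodule.mem_bot F).1 ha, map_zero],
        fun T hT _ h => (P.3 hT h).le⟩)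

end CfsgLib.SylowTwoElem
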