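import Cfsg.Agent.Lib.SylowTwoElem.Basic
import Cfsg.Agent.Lib.Suzuki.LieEquiv
import Cfsg.Agent.Lib.Suzuki.Structure

/-!
The Suzuki groups.
-/

set_option autoImplicit false
set_option linter.style.haveILetI false
set_option linter.unusedSectionVars false

open scoped commutatorElement

namespace CfsgLib.SylowTwoElem

open CfsgLib.Suzuki

variable {F : Type*} [Field F] [Fintype F] [CharP F 2] {m : ℕ} [hP : Param F m]

theorem gT_commutator (a c : F) :
    ⁅gT (m := m) a 0, gT (m := m) c 0⁆ = gT (m := m) 0 (sg F m a * c + sg F m c * a) := by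
  have e : gT (m := m) a 0 * gT (m := m) c 0 =
      gT (m := m) 0 (sg F m a * c + sg F m c * a) * (gT (m := m) c 0 * gT (m := m) a 0) := by
    simp only [gT_mul, map_zero, zero_mul, zero_add, add_zero]
    congr 1
    · exact add_comm a c
    · linear_combination -(sg F m c * a) * two_eq_zero (F := F)
  rw [commutatorElement_def, e]; group

theorem gT_zero_mem_commutator (w : F) :
    gT (m := m) 0 w ∈ ⁅grpU F m, grpU F m⁆ := by
  obtain ⟨t, ht⟩ : ∃ t : F, t + sg F m t ≠ 0 := by
    by_contra hall
    push Not at hall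
    have h8 := eight_le_card (F := F) (m := m)
    classical
    have hle : Fintype.card F ≤ ({0, 1} : Finset F).card := Finset.card_le_card fun t _ => by
      rcases sg_fix hP.card (show sg F m t = t from
        (CharTwo.add_eq_zero.1 (hall t)).symm) with h | h <;> simp [h]
    have := Finset.card_le_two (a := (0 : F)) (b := 1)
    omega
  have hinj : Function.Injective fun a : F => sg F m a * a := by
    intro a b h
    simp only at h
    rcases eq_or_ne b 0 with rfl | hb
    · simpa using h
    · have hb' : sg F m b ≠ 0 := (map_ne_zero _).2 hb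
      have h1 : sg F m (a / b) * (a / b) = 1 := by
        rw [map_div₀, div_mul_div_comm, h, div_self (mul_ne_zero hb' hb)]
      exact (div_eq_one_iff_eq hb).1 (eq_one_of_sg_mul_self hP.card h1)
  obtain ⟨a, ha⟩ := Finite.surjective_of_injective hinj (w / (t + sg F m t))
  have hw : w = sg F m a * (a * t) + sg F m (a * t) * a := by
    rw [eq_div_iff ht] at ha
    rw [← ha, map_mul]; ring
  rw [hw, ← gT_commutator]
  exact Subgroup.commutator_mem_commutator (gT_mem _ _) (gT_mem _ _)

theorem sqComm_suzuki : SqComm (Gp F m) := by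
  haveI := Fact.mk Nat.prime_two
  refine SqComm.of_subgroup (grpU F m) (coe_sylowU (F := F) (m := m) ▸ (sylowU F m).2)
    (coe_sylowU (F := F) (m := m) ▸ (sylowU F m).not_dvd_index) ?_
  rintro _ ⟨a, b, rfl⟩
  refine ⟨gT_mem a b, ?_⟩
  rw [pow_two, gT_mul, CharTwo.add_self_eq_zero]
  exact gT_zero_mem_commutator _

theorem sqComm_lieSuzuki {F : Type} [Field F] [Fintype F] {m : ℕ} (hm : 1 ≤ m)
    (hF : Fintype.card F = 2 ^ (2 * m + 1)) : SqComm ↥(Cfsg.Lie.Sz F (2 ^ (m + 1))) := by
  haveI := Fact.mk Nat.prime_two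
  haveI := charP_two_of_card hF
  haveI : Param F m := ⟨hm, hF⟩
  exact (sqComm_suzuki (F := F) (m := m)).congr (lieEquiv F m)

end CfsgLib.SylowTwoElem
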