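import Cfsg.Agent.Lib.SylowTwoElem.Chev
import Cfsg.Agent.Lib.SylowTwoElem.Orbits
import Cfsg.Agent.Lib.CharP.TwistCases

/-!
The groups `²E₆(q)` and `³D₄(q)` in characteristic two.
-/

set_option autoImplicit false
set_option maxRecDepth 100000
set_option linter.style.haveILetI false
set_option linter.unusedSectionVars false

namespace CfsgLib.SylowTwoElem

open Cfsg.Lie CfsgLib.Chev

theorem chkAbelE6 : chkAbelOrbs tabE6 twistE6.rt dataTwE6.L = true := by decide +kernel

theorem chkAbelD4 : chkAbelOrbs tabD4 twistD4a.rt dataTwD4.L = true := by decide +kernel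

/-- Fixed points of odd index over their part in `U`. -/
theorem sqComm_fix {D : ChevalleyDatum} {T : Tab} {C : Tab.Cover} {h : Cert D T C} {F : Type*}
    [Field F] [Fintype F] [CharP F 2] (E : Endo h F)
    (hidx : ∀ n, Nat.card ↥(E.fix ⊓ D.posUnipotent F) * n = Nat.card ↥E.fix → ¬ 2 ∣ n)
    (hgen : E.fix ⊓ D.posUnipotent F ≤ goodGrp (E.fix ⊓ D.posUnipotent F)) : SqComm ↥E.fix := by
  have hU : IsPGroup 2 ↥(D.posUnipotent F) := by
    haveI := Fact.mk Nat.prime_two
    obtain ⟨m, -, hm⟩ := FiniteField.card F 2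
    exact IsPGroup.of_card (n := (m : ℕ) * T.half) (by rw [h.card_posUnipotent, hm, ← pow_mul])
  refine SqComm.of_le inf_le_left (hU.to_le inf_le_right) (hidx _ ?_) hgen
  rw [← Nat.card_congr (Subgroup.subgroupOfEquivOfLe
    (inf_le_left : E.fix ⊓ D.posUnipotent F ≤ E.fix)).toEquiv]
  exact Subgroup.card_mul_index _

variable {q : ℕ} {K : Type*} [Field K] [Fintype K] [CharP K 2]

theorem sqComm_twistedE6 (hK : Fintype.card K = q ^ 2) (hq : IsPrimePow q) :
    SqComm ↥(twistedE6 K q) := by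
  haveI := Fact.mk Nat.prime_two
  obtain ⟨f, hf⟩ := exists_frob (F := K) (k := 2) hq hK
  rw [← fix_eq_twistedE6 f hf hK hq]
  refine sqComm_fix (endoE6 f) (fun n hn hd => ?_) (fix_pos_le_good (endoE6 f) (dataOK_E6 f) chkAbelE6
    (fun o ho => ((stdE6 f hf hK).lifts _ o ho).1) (hcardE6 f hf hK hq))
  have hpq := dvd_root_card (p := 2) hK
  have hq1 : 1 ≤ q := hq.one_lt.le
  have h1 := card_twistE6 f hf hK hq
  rw [← hn, card_posE6 f hf hK hq, mul_left_comm, mul_assoc, mul_assoc, mul_assoc, mul_assoc,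
    mul_assoc, Nat.mul_left_cancel_iff (pow_pos hq1 36)] at h1
  have h2 : 2 ∣ Nat.gcd 3 (q + 1) * n := hd.mul_left _
  rw [h1] at h2
  simp only [Nat.prime_two.dvd_mul] at h2
  rcases h2 with h2 | h2 | h2 | h2 | h2 | h2
  · exact not_dvd_pow_sub_one (by norm_num) hq1 hpq h2
  · exact not_dvd_pow_add_one (by norm_num) hpq h2
  · exact not_dvd_pow_sub_one (by norm_num) hq1 hpq h2
  · exact not_dvd_pow_sub_one (by norm_num) hq1 hpq h2
  · exact not_dvd_pow_add_one (by norm_num) hpq h2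
  · exact not_dvd_pow_sub_one (by norm_num) hq1 hpq h2

theorem sqComm_twistedD4 (hK : Fintype.card K = q ^ 3) (hq : IsPrimePow q) :
    SqComm ↥(twistedD4 K q) := by
  haveI := Fact.mk Nat.prime_two
  obtain ⟨f, hf⟩ := exists_frob (F := K) (k := 3) hq hK
  rw [← fix_eq_twistedD4 f hf hK hq]
  refine sqComm_fix (endoD4 f) (fun n hn hd => ?_) (fix_pos_le_good (endoD4 f) (dataOK_D4 f) chkAbelD4
    (fun o ho => ((stdD4 f hf (pow_cubeD4 hK)).lifts _ o ho).1) (hcardD4 f hf hK hq))
  have hpq := dvd_root_card (p := 2) hK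
  have hq1 : 1 ≤ q := hq.one_lt.le
  have h1 := card_twistD4 f hf hK hq
  rw [← hn, card_posD4 f hf hK hq, mul_assoc, mul_assoc,
    Nat.mul_left_cancel_iff (pow_pos hq1 12)] at h1
  rw [h1] at hd
  simp only [Nat.prime_two.dvd_mul] at hd
  rcases hd with h2 | h2 | h2
  · exact not_dvd_pow_sub_one (by norm_num) hq1 hpq h2
  · exact not_dvd_pow_sub_one (by norm_num) hq1 hpq h2
  · refine Nat.prime_two.not_dvd_one ((Nat.dvd_add_right ?_).1 h2)
    exact dvd_add (hpq.trans (dvd_pow_self q (by norm_num))) (hpq.trans (dvd_pow_self q (by norm_num)))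

end CfsgLib.SylowTwoElem
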