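import Cfsg.Agent.Lib.SylowTwoElem.Twist
import Cfsg.Agent.Lib.Chev.TwistF4

/-!
The groups `²F₄(q)`: the class of type B₂ gives the squares as commutators.
-/

set_option autoImplicit false
set_option maxRecDepth 100000
set_option linter.style.haveILetI false
set_option linter.unusedSectionVars false

open scoped commutatorElement

namespace CfsgLib.SylowTwoElem

open Cfsg.Lie CfsgLib.Chev

/-- The roots of the class of type B₂. -/
def b2Roots : List ℕ := [25, 27, 28, 30]

theorem chkB2Roots : (b2Roots.all fun r => decide (tabF4.half ≤ r ∧ r < tabF4.n) &&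
    (b2Roots.contains (twistF4.rt r) && b2Roots.all fun s => decide (r = s) ||
      (tabF4.commTerms r s).all fun q => b2Roots.contains q.1)) = true := by decide +kernel

theorem chkB2Comm : ([(27, 28), (27, 30), (25, 28), (25, 30), (28, 30)] : List (ℕ × ℕ)).all
    (fun p => chkCommuteMod tabF4 2 p.1 p.2) = true := by decide +kernel

theorem termsB2 : tabF4.commTerms 27 25 = [(28, -1, 1, 1), (30, -1, 2, 1)] := by decide +kernel

theorem chkB2Layers : chkLayers tabF4 twistF4.rt
    [⟨25, 2, [28, 30], 1, []⟩, ⟨28, 2, [], 2, []⟩] = true := by decide +kernel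

theorem chkTailF4 : (dataTwF4.L.all fun o => chkAbel tabF4 (o.list twistF4.rt ++ o.tail) ||
    ((o.list twistF4.rt ++ o.tail).all (fun s => decide (tabF4.half ≤ s ∧ s < tabF4.n) &&
      b2Roots.any fun r => decide (rword tabF4 (clsWord dataTwF4.CL o.word) r = s)) &&
     (b2Roots.all fun r =>
       (o.list twistF4.rt ++ o.tail).contains (rword tabF4 (clsWord dataTwF4.CL o.word) r)) &&
     o.word.all fun j => decide (j < dataTwF4.CL.length))) = true := by decide +kernel

variable {K : Type*} [Field K] [Fintype K] [CharP K 2]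

/-- An element of the class of type B₂. -/
noncomputable def p4 (a b c d : K) : GL chevF4.Idx K :=
  X chevF4 27 a * X chevF4 25 b * X chevF4 28 c * X chevF4 30 d

theorem p4_mul (a b c d a' b' c' d' : K) : p4 a b c d * p4 a' b' c' d' =
    p4 (a + a') (b + b') (c + c' + a' * b) (d + d' + a' ^ 2 * b) := by
  have hn : ∀ r ∈ b2Roots, r < tabF4.n := by decide +kernel
  have h27 := hn 27 (by simp [b2Roots])
  have h25 := hn 25 (by simp [b2Roots])
  have h28 := hn 28 (by simp [b2Roots])
  have h30 := hn 30 (by simp [b2Roots])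
  have hc : ∀ p ∈ ([(27, 28), (27, 30), (25, 28), (25, 30), (28, 30)] : List (ℕ × ℕ)),
      ∀ s t : K, Commute (X chevF4 p.1 s) (X chevF4 p.2 t) := fun p hp s t =>
    certF4.commute_X_mod (List.all_eq_true.1 chkB2Comm p hp) s t
  have e : X chevF4 25 b * X chevF4 27 a' =
      X chevF4 27 a' * X chevF4 25 b * X chevF4 28 (a' * b) * X chevF4 30 (a' ^ 2 * b) := by
    have e1 := certF4.X_conj h27 h25 (by decide) (by decide +kernel) a' b
    simp only [termsB2, List.map_cons, List.map_nil, List.prod_cons, List.prod_nil, mul_one,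
      Int.cast_neg, Int.cast_one, CharTwo.neg_eq, one_mul, pow_one] at e1
    rw [mul_assoc, mul_assoc, ← e1, ← mul_assoc, ← mul_assoc, certF4.X_add h27,
      CharTwo.add_self_eq_zero, certF4.X_zero h27, one_mul]
  unfold p4
  calc X chevF4 27 a * X chevF4 25 b * X chevF4 28 c * X chevF4 30 d *
      (X chevF4 27 a' * X chevF4 25 b' * X chevF4 28 c' * X chevF4 30 d')
      = X chevF4 27 a * X chevF4 25 b * X chevF4 27 a' * X chevF4 25 b' *
          (X chevF4 28 c * X chevF4 28 c') * (X chevF4 30 d * X chevF4 30 d') := by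
        have a1 := (hc (27, 30) (by simp) a' d).eq
        have a2 := (hc (25, 30) (by simp) b' d).eq
        have a3 := (hc (28, 30) (by simp) c' d).eq
        have a4 := (hc (27, 28) (by simp) a' c).eq
        have a5 := (hc (25, 28) (by simp) b' c).eq
        simp only [mul_assoc]
        rw [← mul_assoc (X chevF4 30 d) (X chevF4 27 a'), ← a1, mul_assoc,
          ← mul_assoc (X chevF4 30 d) (X chevF4 25 b'), ← a2, mul_assoc,
          ← mul_assoc (X chevF4 30 d) (X chevF4 28 c'), ← a3, mul_assoc,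
          ← mul_assoc (X chevF4 28 c) (X chevF4 27 a'), ← a4, mul_assoc,
          ← mul_assoc (X chevF4 28 c) (X chevF4 25 b'), ← a5, mul_assoc]
    _ = X chevF4 27 a * (X chevF4 27 a' * X chevF4 25 b * X chevF4 28 (a' * b) *
          X chevF4 30 (a' ^ 2 * b)) * X chevF4 25 b' * (X chevF4 28 c * X chevF4 28 c') *
          (X chevF4 30 d * X chevF4 30 d') := by
        rw [← e]; simp only [mul_assoc]
    _ = X chevF4 27 a * X chevF4 27 a' * (X chevF4 25 b * X chevF4 25 b') *
          (X chevF4 28 (a' * b) * (X chevF4 28 c * X chevF4 28 c')) *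
          (X chevF4 30 (a' ^ 2 * b) * (X chevF4 30 d * X chevF4 30 d')) := by
        have a1 := (hc (25, 30) (by simp) b' (a' ^ 2 * b)).eq
        have a2 := (hc (28, 30) (by simp) c (a' ^ 2 * b)).eq
        have a3 := (hc (28, 30) (by simp) c' (a' ^ 2 * b)).eq
        have a4 := (hc (25, 28) (by simp) b' (a' * b)).eq
        simp only [mul_assoc]
        rw [← mul_assoc (X chevF4 30 (a' ^ 2 * b)) (X chevF4 25 b'), ← a1, mul_assoc,
          ← mul_assoc (X chevF4 30 (a' ^ 2 * b)) (X chevF4 28 c), ← a2, mul_assoc,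
          ← mul_assoc (X chevF4 30 (a' ^ 2 * b)) (X chevF4 28 c'), ← a3, mul_assoc,
          ← mul_assoc (X chevF4 28 (a' * b)) (X chevF4 25 b'), ← a4, mul_assoc]
    _ = _ := by
        rw [certF4.X_add h27, certF4.X_add h25, certF4.X_add h28, certF4.X_add h28,
          certF4.X_add h30, certF4.X_add h30, add_comm (a' * b), add_comm (a' ^ 2 * b)]

theorem p4_one : p4 (0 : K) 0 0 0 = 1 := by
  have hn : ∀ r ∈ b2Roots, r < tabF4.n := by decide +kernel
  simp only [p4, certF4.X_zero (hn 27 (by simp [b2Roots])), certF4.X_zero (hn 25 (by simp [b2Roots])),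
    certF4.X_zero (hn 28 (by simp [b2Roots])), certF4.X_zero (hn 30 (by simp [b2Roots])), mul_one]

variable {e : ℕ} (f : K →+* K) (hf : ∀ t, f t = t ^ e) (hK : Fintype.card K = 2 * e ^ 2)

/-- The fixed part of the class of type B₂. -/
noncomputable def qB2 : Subgroup (GL chevF4.Idx K) :=
  (endoF4 f).fix ⊓ gen chevF4 K {r | r ∈ b2Roots}

include hf hK in
theorem p4_mem_qB2 (t u : K) :
    p4 (f t) t (f t * t + u) (f u ^ 2) ∈ qB2 f := by
  refine ⟨?_, ?_⟩
  · refine twistedF4_le_fix f hf hK ?_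
    have h := certF4.prod_mem_genSubgroup (F := K) (S := f4Words K e)
      (w := b2ClassWord e f4a f4b f4ab f4aab t u) (Or.inr ⟨t, u, Or.inl rfl⟩)
    simpa [twistedF4, b2ClassWord, f4a, f4b, f4ab, f4aab, p4, mul_assoc, hf, pow_succ, pow_mul'] using h
  · exact mul_mem (mul_mem (mul_mem (X_mem_gen _ (by simp [b2Roots]) _)
      (X_mem_gen _ (by simp [b2Roots]) _)) (X_mem_gen _ (by simp [b2Roots]) _))
      (X_mem_gen _ (by simp [b2Roots]) _)

variable (he : 2 ≤ e)

include hf hK he in
/-- The centre of the class consists of commutators. -/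
theorem p4_mem_commutator (w : K) : p4 0 0 w (f w ^ 2) ∈ ⁅qB2 f, qB2 f⁆ := by
  have hff : ∀ x, f (f x) ^ 2 = x := fun x => by rw [hf, hf]; exact pow_fullF4 hK x
  obtain ⟨μ, hμ⟩ : ∃ μ : K, μ + f μ ≠ 0 := by
    by_contra hall
    push Not at hall
    have hid : ∀ x, f x = x := fun x => (CharTwo.add_eq_zero.1 (hall x)).symm
    classical
    have hle : Fintype.card K ≤ ({0, 1} : Finset K).card := Finset.card_le_card fun x _ => by
      have h2 := hff x
      rw [hid, hid] at h2
      have h3 : x * (x - 1) = 0 := by linear_combination h2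
      rcases mul_eq_zero.1 h3 with h | h
      · simp [h]
      · simp [sub_eq_zero.1 h]
    have h2 := Finset.card_le_two (a := (0 : K)) (b := 1)
    nlinarith
  have hinj : Function.Injective fun x : K => f x * x := by
    intro a b h
    simp only at h
    rcases eq_or_ne b 0 with rfl | hb
    · simpa using h
    · have hb' : f b ≠ 0 := (map_ne_zero _).2 hb
      have h1 : f (a / b) * (a / b) = 1 := by
        rw [map_div₀, div_mul_div_comm, h, div_self (mul_ne_zero hb' hb)]
      set x := a / b with hx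
      have hx0 : x ≠ 0 := fun h0 => by simp [h0] at h1
      have h3 : f x = x⁻¹ := eq_inv_of_mul_eq_one_left h1
      have h4 := hff x
      rw [h3, map_inv₀, h3, inv_inv] at h4
      have h5 : x * (x - 1) = 0 := by linear_combination h4
      exact (div_eq_one_iff_eq hb).1 (sub_eq_zero.1 ((mul_eq_zero.1 h5).resolve_left hx0))
  obtain ⟨t, ht⟩ := Finite.surjective_of_injective hinj (w / (μ + f μ))
  rw [eq_div_iff hμ] at ht
  obtain ⟨s, hs⟩ : ∃ s, s = t * μ := ⟨_, rfl⟩
  have hw : w = f s * t + f t * s := by rw [← ht, hs, map_mul]; ring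
  have hA := p4_mem_qB2 f hf hK t 0
  have hB := p4_mem_qB2 f hf hK s 0
  rw [map_zero, zero_pow two_ne_zero, add_zero] at hA hB
  have hcom : p4 (f t) t (f t * t) 0 * p4 (f s) s (f s * s) 0 =
      p4 0 0 w (f w ^ 2) * (p4 (f s) s (f s * s) 0 * p4 (f t) t (f t * t) 0) := by
    rw [p4_mul, p4_mul, p4_mul]
    have hw2 : f w ^ 2 = f s ^ 2 * t + f t ^ 2 * s := by
      rw [hw, map_add, map_mul, map_mul, CharTwo.add_sq, mul_pow, mul_pow, hff, hff]; ring
    congr 1
    · ring
    · ring
    · rw [hw]; linear_combination -(f t * s) * (CharTwo.two_eq_zero (R := K))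
    · rw [hw2]; linear_combination -(f t ^ 2 * s) * (CharTwo.two_eq_zero (R := K))
  have h := Subgroup.commutator_mem_commutator hA hB
  rw [commutatorElement_def, hcom] at h
  simpa [mul_assoc] using h

include hf hK he in
theorem qB2_le_good : qB2 f ≤ goodGrp (qB2 f) := by
  have hd := chkB2Roots
  simp only [List.all_eq_true, Bool.and_eq_true, decide_eq_true_eq, List.contains_iff_mem,
    Bool.or_eq_true] at hd
  have hsub : {r | r ∈ b2Roots} ⊆ posSet tabF4 := fun r hr => (hd r hr).1
  have hcl : CommClosed tabF4 {r | r ∈ b2Roots} := fun r hr s hs hne q hq =>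
    ((hd r hr).2.2 s hs).resolve_left hne.symm q hq
  set L : List Orb := [⟨25, 2, [28, 30], 1, []⟩, ⟨28, 2, [], 2, []⟩] with hL
  have hlift : ∀ o ∈ L, (endoF4 f).Lift (goodGrp (qB2 f)) o := by
    intro o ho
    have hbm : o ∈ dataTwF4.base := by
      simp only [hL, dataTwF4, List.mem_cons, List.not_mem_nil, or_false] at ho ⊢
      tauto
    refine Endo.lift_of_word _ chkBaseTwF4 hbm fun t _ => ?_
    simp only [hL, List.mem_cons, List.not_mem_nil, or_false] at ho
    rcases ho with rfl | rfl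
    · have hm := p4_mem_qB2 f hf hK t 0
      refine ⟨[(27, f t), (25, t), (28, f t * t + 0), (30, f 0 ^ 2)], ?_, ?_, ?_, ?_⟩
      · simp [Orb.list, List.range_succ, show (endoF4 f).ρ 25 = 27 from
          (by decide +kernel : twistF4.rt 25 = 27)]
      · have e0 : (([(27, f t), (25, t), (28, f t * t + 0), (30, f 0 ^ 2)] : List (ℕ × K)).map
            fun p => X chevF4 p.1 p.2).prod = p4 (f t) t (f t * t + 0) (f 0 ^ 2) := by
          simp [p4, mul_assoc]
        rw [e0]
        refine ⟨hm, ?_⟩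
        rw [pow_two, p4_mul]
        have e1 := p4_mem_commutator f hf hK he (f t * t)
        have hft2 : f (f t * t) ^ 2 = f t ^ 2 * t := by
          rw [map_mul, mul_pow, hf (f t), hf t, pow_fullF4 hK]; ring
        rw [hft2] at e1
        simpa [CharTwo.add_self_eq_zero] using e1
      · simpa [p4, mul_assoc] using hm.1
      · simp
    · have hm := p4_mem_qB2 f hf hK 0 t
      rw [map_zero, zero_mul, zero_add] at hm
      have e0 : (([(28, t), (30, f t ^ 2)] : List (ℕ × K)).map
          fun p => X chevF4 p.1 p.2).prod = p4 0 0 t (f t ^ 2) := by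
        have hn : ∀ r ∈ b2Roots, r < tabF4.n := by decide +kernel
        simp [p4, certF4.X_zero (hn 27 (by simp [b2Roots])), certF4.X_zero (hn 25 (by simp [b2Roots]))]
      refine ⟨[(28, t), (30, f t ^ 2)], ?_, ?_, ?_, ?_⟩
      · simp [Orb.list, List.range_succ, show (endoF4 f).ρ 28 = 30 from
          (by decide +kernel : twistF4.rt 28 = 30)]
      · rw [e0]
        exact mem_goodGrp_of_sq hm (by
          rw [p4_mul]; simp [CharTwo.add_self_eq_zero, p4_one])
      · rw [e0]; exact hm.1
      · simp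
  have hcard : ∀ o ∈ L, Nat.card ((endoF4 f).Adm o) ^ 2 = Fintype.card K ^ o.size := fun o ho =>
    base_cardF4 f hf hK o (by
      simp only [hL, dataTwF4, List.mem_cons, List.not_mem_nil, or_false] at ho ⊢
      tauto)
  have h1 := ((endoF4 f).fix_gen (goodGrp (qB2 f)) hsub hcl (fun r hr => (hd r hr).2.1) L
    chkB2Layers hlift hcard).1
  refine le_trans ?_ h1
  refine inf_le_inf_left _ (gen_mono _ fun r hr => ⟨hr, ?_⟩)
  have hall : ∀ r ∈ b2Roots, r ∈ flatOrbs twistF4.rt L := by rw [hL]; decide +kernel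
  exact hall r hr

include hf hK he in
theorem fix_posF4_le_good : (endoF4 f).fix ⊓ chevF4.posUnipotent K ≤
    goodGrp ((endoF4 f).fix ⊓ chevF4.posUnipotent K) := by
  set U := (endoF4 f).fix ⊓ chevF4.posUnipotent K with hU
  refine ((endoF4 f).fix_posUnipotent (dataOK_F4 f) (K := goodGrp U) (fun o ho t ht => ?_)
    (hcardF4 f hf hK)).1
  obtain ⟨u, -, huF, huG, huC⟩ := ((stdF4 f hf hK).lifts _ o ho).1 t ht
  have he1 : o.cls (endoF4 f).ρ = {r | r ∈ o.list twistF4.rt ++ o.tail} := by
    ext r; simp only [Orb.cls, Set.mem_ofPred_eq, List.mem_append]; rfl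
  refine ⟨u, ?_, huF, huG, huC⟩
  rw [he1] at huG
  have hchk := List.all_eq_true.1 chkTailF4 o ho
  rw [Bool.or_eq_true] at hchk
  rcases hchk with hab | hchk
  · refine mem_goodGrp_of_sq ⟨huF, ?_⟩ (gen_abel_sq (h := certF4) hab huG)
    rw [SetLike.mem_coe, certF4.posUnipotent_eq]
    simp only [chkAbel, List.all_eq_true, Bool.and_eq_true, decide_eq_true_eq] at hab
    exact gen_mono _ (fun r hr => (hab r hr).1) huG
  · simp only [List.all_eq_true, Bool.and_eq_true, decide_eq_true_eq, List.contains_iff_mem,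
      List.any_eq_true] at hchk
    obtain ⟨⟨h1, h2⟩, h3⟩ := hchk
    obtain ⟨m, -, hmf, -, hmM⟩ := (endoF4 f).exists_rep_clsWord (dataOK_F4 f).cls
      (repsF4 f hf hK) h3
    have hn : ∀ r ∈ b2Roots, r < tabF4.n := by decide +kernel
    have hx : m⁻¹ * u * m ∈ qB2 f := by
      have hxF : m⁻¹ * u * m ∈ (endoF4 f).fix := mul_mem (mul_mem (inv_mem hmf) huF) hmf
      refine ⟨hxF, ?_⟩
      have := Cert.conj_gen_le (g := m⁻¹) (S' := {r | r ∈ b2Roots}) (fun s hs => by
        obtain ⟨r, hr, e⟩ := (h1 s hs).2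
        exact ⟨r, hr, e ▸ Cert.Maps_inv (hmM r (hn r hr))⟩) huG
      rwa [inv_inv] at this
    have hle : (qB2 f).map (MulAut.conj m).toMonoidHom ≤ U := by
      rintro _ ⟨x, hx, rfl⟩
      have hxF : m * x * m⁻¹ ∈ (endoF4 f).fix := mul_mem (mul_mem hmf hx.1) (inv_mem hmf)
      refine ⟨hxF, ?_⟩
      rw [SetLike.mem_coe, certF4.posUnipotent_eq]
      refine gen_mono _ (S := {r | r ∈ o.list twistF4.rt ++ o.tail}) (fun r hr => (h1 r hr).1) ?_
      exact Cert.conj_gen_le (fun r hr => ⟨_, h2 r hr, hmM r (hn r hr)⟩) hx.2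
    obtain ⟨-, hsq⟩ := qB2_le_good f hf hK he hx
    have hu : u = MulAut.conj m (m⁻¹ * u * m) := by rw [MulAut.conj_apply]; group
    refine ⟨hu ▸ hle ⟨_, hx, rfl⟩, Subgroup.commutator_mono hle hle ?_⟩
    rw [← Subgroup.map_commutator, hu, ← map_pow]
    exact ⟨_, hsq, rfl⟩

theorem sqComm_twistedF4 {K : Type*} [Field K] [Fintype K] {m : ℕ} (hm : 1 ≤ m)
    (hK : Fintype.card K = 2 ^ (2 * m + 1)) : SqComm ↥(twistedF4 K (2 ^ m)) := by
  haveI := Fact.mk Nat.prime_two
  haveI := charTwo_F4 hK
  obtain ⟨f, hf, hK'⟩ := setupF4 hK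
  have he : 2 ≤ 2 ^ m := Nat.le_self_pow (by omega) 2
  rw [← fix_eq_twistedF4 f hf hK']
  refine sqComm_fix (endoF4 f) (fun n hn hd => ?_) (fix_posF4_le_good f hf hK' he)
  have hQ : 2 ∣ Fintype.card K := ⟨_, hK'⟩
  have hQ1 : 1 ≤ Fintype.card K := Fintype.card_pos
  have h1 := card_twistF4 f hf hK'
  rw [← hn, card_posF4 f hf hK', mul_assoc, mul_assoc, mul_assoc,
    Nat.mul_left_cancel_iff (pow_pos hQ1 12)] at h1
  rw [h1] at hd
  simp only [Nat.prime_two.dvd_mul] at hd
  rcases hd with h2 | h2 | h2 | h2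
  · exact not_dvd_pow_sub_one (p := 2) one_ne_zero hQ1 hQ (by rwa [pow_one])
  · exact not_dvd_pow_add_one (p := 2) (by norm_num) hQ h2
  · exact not_dvd_pow_sub_one (p := 2) (by norm_num) hQ1 hQ h2
  · exact not_dvd_pow_add_one (p := 2) (by norm_num) hQ h2

end CfsgLib.SylowTwoElem
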